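import Cfsg.Agent.Lib.Schur.PcPerm

/-!
# A tail certificate for a Sylow 2-subgroup of `HS` (generated by a script)
-/

set_option autoImplicit false
set_option maxRecDepth 100000
set_option maxHeartbeats 0

namespace Cfsg.Agent.Lib.HSSch.P2

open Cfsg.Agent.Lib.Schur.PcMain Cfsg.Agent.Lib.Schur.PcPerm

def rule_0 : List (List ℕ) := [[8]]

def rule_1 : List (List ℕ) := [[1, 3], []]

def rule_2 : List (List ℕ) := [[2, 4], [2, 5], []]

def rule_3 : List (List ℕ) := [[3, 8], [3, 8], [3, 6], [8]]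

def rule_4 : List (List ℕ) := [[4, 8], [4, 8], [4, 8], [4], [8]]

def rule_5 : List (List ℕ) := [[5, 6, 7, 8], [5], [5], [5, 7], [5], []]

def rule_6 : List (List ℕ) := [[6], [6, 7, 8], [6, 8], [6, 8], [6], [6, 8], [8]]

def rule_7 : List (List ℕ) := [[7, 8], [7], [7, 8], [7], [7], [7], [7], []]

def rule_8 : List (List ℕ) := [[8], [8], [8], [8], [8], [8], [8], [8], []]

def item_0 : List (List ℕ) × List (List ℕ) := ([[0, 2], [1], [3, 4, 6, 8], [4, 8], [5], [6, 7], [7], [8]], [[0, 1, 2, 3, 4, 7], [1], [1, 4, 5, 7, 8], [3, 4, 5, 6, 7, 8], [1, 5, 7], [3, 5, 7, 8], [7], [7, 8]])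

def item_1 : List (List ℕ) × List (List ℕ) := ([[1, 2, 3, 4, 5, 7], [2], [4, 8], [5], [6, 7], [7], [8]], [[1, 2], [2, 4], [4, 5, 8], [2, 4, 5, 6, 7, 8], [2, 4, 6, 7, 8], [5, 7, 8], [8]])

def ov_0 : List ℕ × ℕ × ℕ × List (ℕ × ℤ) := ([2, 1, 0], 0, 1, [(3002, 1), (4001, -1), (4003, -1), (5000, 1), (5003, -1), (5004, -1), (6004, 1), (6005, 1), (6006, 1), (8003, -1), (8006, 1), (8008, 1)])

def ov_1 : List ℕ × ℕ × ℕ × List (ℕ × ℤ) := ([3, 1, 0], 0, 1, [(8000, 1), (8001, -1)])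

def ov_2 : List ℕ × ℕ × ℕ × List (ℕ × ℤ) := ([3, 2, 0], 0, 1, [(4003, 1), (6000, 1), (6004, -1), (8002, -1), (8004, -1), (8006, 1)])

def ov_3 : List ℕ × ℕ × ℕ × List (ℕ × ℤ) := ([3, 2, 1], 0, 1, [(5003, 1), (6001, 1), (6005, -1), (7006, 1), (7007, 1), (8002, -1), (8005, -1), (8006, 1), (8007, 1)])

def ov_4 : List ℕ × ℕ × ℕ × List (ℕ × ℤ) := ([4, 1, 0], 0, 1, [(4003, -1), (8000, 1), (8001, -1)])

def ov_5 : List ℕ × ℕ × ℕ × List (ℕ × ℤ) := ([4, 2, 0], 0, 1, [(8000, 1), (8002, -1)])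

def ov_6 : List ℕ × ℕ × ℕ × List (ℕ × ℤ) := ([4, 2, 1], 0, 1, [(5004, 1), (8001, 1), (8002, -1)])

def ov_7 : List ℕ × ℕ × ℕ × List (ℕ × ℤ) := ([4, 3, 0], 0, 1, [(8003, -1), (8004, 1)])

def ov_8 : List ℕ × ℕ × ℕ × List (ℕ × ℤ) := ([4, 3, 1], 0, 1, [(8003, -1), (8004, 1)])

def ov_9 : List ℕ × ℕ × ℕ × List (ℕ × ℤ) := ([4, 3, 2], 0, 1, [(6004, 1), (8003, -1), (8006, -1)])

def ov_10 : List ℕ × ℕ × ℕ × List (ℕ × ℤ) := ([5, 1, 0], 0, 1, [(5003, -1), (6001, -1), (6003, -1), (7001, -1), (7006, -1), (7007, -1), (8001, -1), (8007, -1), (8008, -1)])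

def ov_11 : List ℕ × ℕ × ℕ × List (ℕ × ℤ) := ([5, 2, 0], 0, 1, [(5004, -1), (6002, -1), (6004, -1), (7002, -1), (7004, -1), (8002, -1), (8004, -1), (8007, -1), (8008, -1)])

def ov_12 : List ℕ × ℕ × ℕ × List (ℕ × ℤ) := ([5, 3, 0], 0, 1, [(6003, -1), (7000, 1), (7003, -1), (7006, -1), (8003, -1), (8005, 1), (8006, 1)])

def ov_13 : List ℕ × ℕ × ℕ × List (ℕ × ℤ) := ([5, 3, 1], 0, 1, [(7001, 1), (8005, 1), (8007, 1)])

def ov_14 : List ℕ × ℕ × ℕ × List (ℕ × ℤ) := ([5, 3, 2], 0, 1, [(6005, 1), (7002, 1), (7006, -1), (8007, 1), (8008, 1)])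

def ov_15 : List ℕ × ℕ × ℕ × List (ℕ × ℤ) := ([5, 4, 0], 0, 1, [(6004, -1), (7004, -1), (8004, -1), (8005, 1), (8006, 1), (8007, 1)])

def ov_16 : List ℕ × ℕ × ℕ × List (ℕ × ℤ) := ([5, 4, 1], 0, 1, [(8005, 1)])

def ov_17 : List ℕ × ℕ × ℕ × List (ℕ × ℤ) := ([5, 4, 2], 0, 1, [(8005, 1)])

def ov_18 : List ℕ × ℕ × ℕ × List (ℕ × ℤ) := ([5, 4, 3], 0, 1, [(7004, -1)])

def ov_19 : List ℕ × ℕ × ℕ × List (ℕ × ℤ) := ([6, 1, 0], 0, 1, [(6003, -1), (7000, 1), (7003, -1), (8000, 1), (8003, -1), (8007, -1)])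

def ov_20 : List ℕ × ℕ × ℕ × List (ℕ × ℤ) := ([6, 2, 0], 0, 1, [(6004, -1), (8000, 1), (8004, -1)])

def ov_21 : List ℕ × ℕ × ℕ × List (ℕ × ℤ) := ([6, 2, 1], 0, 1, [(6005, -1), (7002, -1), (7005, -1), (8001, 1), (8002, -1), (8005, -1), (8007, -2), (8008, -1)])

def ov_22 : List ℕ × ℕ × ℕ × List (ℕ × ℤ) := ([6, 3, 0], 0, 1, [(8000, 1), (8006, 1)])

def ov_23 : List ℕ × ℕ × ℕ × List (ℕ × ℤ) := ([6, 3, 1], 0, 1, [(7003, -1), (8001, 1), (8003, -1), (8006, 1)])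

def ov_24 : List ℕ × ℕ × ℕ × List (ℕ × ℤ) := ([6, 3, 2], 0, 1, [(8002, 1), (8003, -1)])

def ov_25 : List ℕ × ℕ × ℕ × List (ℕ × ℤ) := ([6, 4, 0], 0, 1, [(8006, 1)])

def ov_26 : List ℕ × ℕ × ℕ × List (ℕ × ℤ) := ([6, 4, 1], 0, 1, [(7004, -1), (8004, -1), (8006, 1), (8007, 1)])

def ov_27 : List ℕ × ℕ × ℕ × List (ℕ × ℤ) := ([6, 4, 2], 0, 1, [(8004, -1), (8006, 1)])

def ov_28 : List ℕ × ℕ × ℕ × List (ℕ × ℤ) := ([6, 4, 3], 0, 1, [(8004, -1)])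

def ov_29 : List ℕ × ℕ × ℕ × List (ℕ × ℤ) := ([6, 5, 0], 0, 1, [(7006, 1), (8000, 1), (8007, 1)])

def ov_30 : List ℕ × ℕ × ℕ × List (ℕ × ℤ) := ([6, 5, 1], 0, 1, [(7005, -1), (8001, 1), (8005, -1), (8007, -1)])

def ov_31 : List ℕ × ℕ × ℕ × List (ℕ × ℤ) := ([6, 5, 2], 0, 1, [(8002, 1), (8005, -1)])

def ov_32 : List ℕ × ℕ × ℕ × List (ℕ × ℤ) := ([6, 5, 3], 0, 1, [(7006, 1), (8003, 1), (8005, -1)])

def ov_33 : List ℕ × ℕ × ℕ × List (ℕ × ℤ) := ([6, 5, 4], 0, 1, [(8004, 1)])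

def ov_34 : List ℕ × ℕ × ℕ × List (ℕ × ℤ) := ([7, 1, 0], 0, 1, [(7003, -1), (8001, -1), (8003, -1)])

def ov_35 : List ℕ × ℕ × ℕ × List (ℕ × ℤ) := ([7, 2, 0], 0, 1, [(7004, -1), (8000, 1), (8002, -1)])

def ov_36 : List ℕ × ℕ × ℕ × List (ℕ × ℤ) := ([7, 2, 1], 0, 1, [(7005, -1), (8001, 1), (8005, -1)])

def ov_37 : List ℕ × ℕ × ℕ × List (ℕ × ℤ) := ([7, 3, 0], 0, 1, [(8003, -1), (8007, 1)])

def ov_38 : List ℕ × ℕ × ℕ × List (ℕ × ℤ) := ([7, 3, 1], 0, 1, [(8007, 1)])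

def ov_39 : List ℕ × ℕ × ℕ × List (ℕ × ℤ) := ([7, 3, 2], 0, 1, [(7006, -1), (8003, -1), (8006, -1)])

def ov_40 : List ℕ × ℕ × ℕ × List (ℕ × ℤ) := ([7, 4, 0], 0, 1, [(8004, -1), (8007, 1)])

def ov_41 : List ℕ × ℕ × ℕ × List (ℕ × ℤ) := ([7, 4, 1], 0, 1, [(8007, 1)])

def ov_42 : List ℕ × ℕ × ℕ × List (ℕ × ℤ) := ([7, 4, 2], 0, 1, [(8004, -1), (8007, 1)])

def ov_43 : List ℕ × ℕ × ℕ × List (ℕ × ℤ) := ([7, 5, 0], 0, 1, [(7006, -1), (8005, -1), (8006, -1)])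

def ov_44 : List ℕ × ℕ × ℕ × List (ℕ × ℤ) := ([7, 5, 2], 0, 1, [(8005, -1)])

def ov_45 : List ℕ × ℕ × ℕ × List (ℕ × ℤ) := ([7, 6, 0], 0, 1, [(8006, -1)])

def ov_46 : List ℕ × ℕ × ℕ × List (ℕ × ℤ) := ([7, 6, 1], 0, 1, [(8007, 1)])

def ov_47 : List ℕ × ℕ × ℕ × List (ℕ × ℤ) := ([7, 6, 2], 0, 1, [(8006, -1), (8007, 1)])

def ov_48 : List ℕ × ℕ × ℕ × List (ℕ × ℤ) := ([7, 6, 3], 0, 1, [(8007, 1)])

def ov_49 : List ℕ × ℕ × ℕ × List (ℕ × ℤ) := ([7, 6, 5], 0, 1, [(8007, 1)])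

def ov_50 : List ℕ × ℕ × ℕ × List (ℕ × ℤ) := ([8, 1, 0], 0, 1, [(8003, -1)])

def ov_51 : List ℕ × ℕ × ℕ × List (ℕ × ℤ) := ([8, 2, 0], 0, 1, [(8004, -1)])

def ov_52 : List ℕ × ℕ × ℕ × List (ℕ × ℤ) := ([8, 2, 1], 0, 1, [(8005, -1)])

def ov_53 : List ℕ × ℕ × ℕ × List (ℕ × ℤ) := ([8, 3, 2], 0, 1, [(8006, -1)])

def ov_54 : List ℕ × ℕ × ℕ × List (ℕ × ℤ) := ([8, 5, 0], 0, 1, [(8006, -1), (8007, -1)])

def ov_55 : List ℕ × ℕ × ℕ × List (ℕ × ℤ) := ([8, 5, 3], 0, 1, [(8007, -1)])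

def ov_56 : List ℕ × ℕ × ℕ × List (ℕ × ℤ) := ([8, 6, 1], 0, 1, [(8007, -1)])

def ov_57 : List ℕ × ℕ × ℕ × List (ℕ × ℤ) := ([1, 1, 0], 0, 1, [(1000, -2), (3001, -1), (3003, -1), (8003, -1), (8008, -1)])

def ov_58 : List ℕ × ℕ × ℕ × List (ℕ × ℤ) := ([1, 0, 0], 0, 1, [(1000, 2), (3000, 1), (3003, 1), (8001, 1), (8003, 2), (8008, 1)])

def ov_59 : List ℕ × ℕ × ℕ × List (ℕ × ℤ) := ([2, 2, 0], 0, 1, [(2000, -2), (4002, -1), (4004, -1), (8004, -1), (8008, -1)])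

def ov_60 : List ℕ × ℕ × ℕ × List (ℕ × ℤ) := ([2, 0, 0], 0, 1, [(2000, 2), (4000, 1), (4004, 1), (8002, 1), (8004, 2), (8008, 1)])

def ov_61 : List ℕ × ℕ × ℕ × List (ℕ × ℤ) := ([2, 2, 1], 0, 1, [(2001, -2), (5002, -1), (5005, -1)])

def ov_62 : List ℕ × ℕ × ℕ × List (ℕ × ℤ) := ([2, 1, 1], 0, 1, [(2001, 2), (5001, 1), (5005, 1)])

def ov_63 : List ℕ × ℕ × ℕ × List (ℕ × ℤ) := ([3, 3, 0], 0, 1, [(3000, -2), (8000, 1), (8003, -1), (8008, -1)])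

def ov_64 : List ℕ × ℕ × ℕ × List (ℕ × ℤ) := ([3, 0, 0], 0, 1, [(3000, 2), (8000, 1), (8003, 1), (8008, 1)])

def ov_65 : List ℕ × ℕ × ℕ × List (ℕ × ℤ) := ([3, 3, 1], 0, 1, [(3001, -2), (8001, 1), (8003, -1), (8008, -1)])

def ov_66 : List ℕ × ℕ × ℕ × List (ℕ × ℤ) := ([3, 1, 1], 0, 1, [(3001, 2), (8001, 1), (8008, 1)])

def ov_67 : List ℕ × ℕ × ℕ × List (ℕ × ℤ) := ([3, 3, 2], 0, 1, [(3002, -2), (6003, -1), (6006, -1), (8002, 1), (8006, -1), (8008, -1)])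

def ov_68 : List ℕ × ℕ × ℕ × List (ℕ × ℤ) := ([3, 2, 2], 0, 1, [(3002, 2), (6002, 1), (6006, 1), (8008, 1)])

def ov_69 : List ℕ × ℕ × ℕ × List (ℕ × ℤ) := ([4, 4, 0], 0, 1, [(4000, -2), (8000, 1), (8004, -1), (8008, -1)])

def ov_70 : List ℕ × ℕ × ℕ × List (ℕ × ℤ) := ([4, 0, 0], 0, 1, [(4000, 2), (8000, 1), (8004, 1), (8008, 1)])

def ov_71 : List ℕ × ℕ × ℕ × List (ℕ × ℤ) := ([4, 4, 1], 0, 1, [(4001, -2), (8001, 1), (8004, -1), (8008, -1)])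

def ov_72 : List ℕ × ℕ × ℕ × List (ℕ × ℤ) := ([4, 1, 1], 0, 1, [(4001, 2), (8001, 1), (8008, 1)])

def ov_73 : List ℕ × ℕ × ℕ × List (ℕ × ℤ) := ([4, 4, 2], 0, 1, [(4002, -2), (8002, 1), (8004, -1), (8008, -1)])

def ov_74 : List ℕ × ℕ × ℕ × List (ℕ × ℤ) := ([4, 2, 2], 0, 1, [(4002, 2), (8002, 1), (8008, 1)])

def ov_75 : List ℕ × ℕ × ℕ × List (ℕ × ℤ) := ([4, 4, 3], 0, 1, [(4003, -2), (8003, 1)])

def ov_76 : List ℕ × ℕ × ℕ × List (ℕ × ℤ) := ([4, 3, 3], 0, 1, [(4003, 2), (8004, 1)])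

def ov_77 : List ℕ × ℕ × ℕ × List (ℕ × ℤ) := ([5, 5, 0], 0, 1, [(5000, -2), (6005, -1), (6006, -1), (7005, -1), (7006, -1), (7007, -1), (8005, -1), (8007, -3), (8008, -2)])

def ov_78 : List ℕ × ℕ × ℕ × List (ℕ × ℤ) := ([5, 0, 0], 0, 1, [(5000, 2), (6000, 1), (6006, 1), (7000, 1), (7006, 1), (7007, 1), (8000, 1), (8005, 1), (8006, 1), (8007, 3), (8008, 2)])

def ov_79 : List ℕ × ℕ × ℕ × List (ℕ × ℤ) := ([5, 5, 1], 0, 1, [(5001, -2)])

def ov_80 : List ℕ × ℕ × ℕ × List (ℕ × ℤ) := ([5, 1, 1], 0, 1, [(5001, 2)])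

def ov_81 : List ℕ × ℕ × ℕ × List (ℕ × ℤ) := ([5, 5, 2], 0, 1, [(5002, -2)])

def ov_82 : List ℕ × ℕ × ℕ × List (ℕ × ℤ) := ([5, 2, 2], 0, 1, [(5002, 2)])

def ov_83 : List ℕ × ℕ × ℕ × List (ℕ × ℤ) := ([5, 5, 3], 0, 1, [(5003, -2), (7005, -1), (7007, -1)])

def ov_84 : List ℕ × ℕ × ℕ × List (ℕ × ℤ) := ([5, 3, 3], 0, 1, [(5003, 2), (7003, 1), (7007, 1), (8005, 1), (8007, 2)])

def ov_85 : List ℕ × ℕ × ℕ × List (ℕ × ℤ) := ([5, 5, 4], 0, 1, [(5004, -2)])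

def ov_86 : List ℕ × ℕ × ℕ × List (ℕ × ℤ) := ([5, 4, 4], 0, 1, [(5004, 2), (8005, 1)])

def ov_87 : List ℕ × ℕ × ℕ × List (ℕ × ℤ) := ([6, 6, 0], 0, 1, [(6000, -2), (8000, 1)])

def ov_88 : List ℕ × ℕ × ℕ × List (ℕ × ℤ) := ([6, 0, 0], 0, 1, [(6000, 2), (8006, 1)])

def ov_89 : List ℕ × ℕ × ℕ × List (ℕ × ℤ) := ([6, 6, 1], 0, 1, [(6001, -2), (7006, -1), (7007, -1), (8001, 1), (8006, -1), (8007, -1), (8008, -1)])

def ov_90 : List ℕ × ℕ × ℕ × List (ℕ × ℤ) := ([6, 1, 1], 0, 1, [(6001, 2), (7001, 1), (7007, 1), (8001, 1), (8007, 1), (8008, 1)])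

def ov_91 : List ℕ × ℕ × ℕ × List (ℕ × ℤ) := ([6, 6, 2], 0, 1, [(6002, -2), (8002, 1), (8006, -1), (8008, -1)])

def ov_92 : List ℕ × ℕ × ℕ × List (ℕ × ℤ) := ([6, 2, 2], 0, 1, [(6002, 2), (8002, 1), (8008, 1)])

def ov_93 : List ℕ × ℕ × ℕ × List (ℕ × ℤ) := ([6, 6, 3], 0, 1, [(6003, -2), (8003, 1), (8006, -1), (8008, -1)])

def ov_94 : List ℕ × ℕ × ℕ × List (ℕ × ℤ) := ([6, 3, 3], 0, 1, [(6003, 2), (8003, 1), (8006, 1), (8008, 1)])

def ov_95 : List ℕ × ℕ × ℕ × List (ℕ × ℤ) := ([6, 6, 4], 0, 1, [(6004, -2), (8004, 1)])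

def ov_96 : List ℕ × ℕ × ℕ × List (ℕ × ℤ) := ([6, 4, 4], 0, 1, [(6004, 2), (8006, 1)])

def ov_97 : List ℕ × ℕ × ℕ × List (ℕ × ℤ) := ([6, 6, 5], 0, 1, [(6005, -2), (8005, 1), (8006, -1), (8008, -1)])

def ov_98 : List ℕ × ℕ × ℕ × List (ℕ × ℤ) := ([6, 5, 5], 0, 1, [(6005, 2), (8005, 1), (8008, 1)])

def ov_99 : List ℕ × ℕ × ℕ × List (ℕ × ℤ) := ([7, 7, 0], 0, 1, [(7000, -2), (8007, -1), (8008, -1)])

def ov_100 : List ℕ × ℕ × ℕ × List (ℕ × ℤ) := ([7, 0, 0], 0, 1, [(7000, 2), (8000, 1), (8007, 1), (8008, 1)])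

def ov_101 : List ℕ × ℕ × ℕ × List (ℕ × ℤ) := ([7, 7, 1], 0, 1, [(7001, -2)])

def ov_102 : List ℕ × ℕ × ℕ × List (ℕ × ℤ) := ([7, 1, 1], 0, 1, [(7001, 2)])

def ov_103 : List ℕ × ℕ × ℕ × List (ℕ × ℤ) := ([7, 7, 2], 0, 1, [(7002, -2), (8007, -1), (8008, -1)])

def ov_104 : List ℕ × ℕ × ℕ × List (ℕ × ℤ) := ([7, 2, 2], 0, 1, [(7002, 2), (8002, 1), (8008, 1)])

def ov_105 : List ℕ × ℕ × ℕ × List (ℕ × ℤ) := ([7, 7, 3], 0, 1, [(7003, -2)])

def ov_106 : List ℕ × ℕ × ℕ × List (ℕ × ℤ) := ([7, 3, 3], 0, 1, [(7003, 2), (8007, 1)])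

def ov_107 : List ℕ × ℕ × ℕ × List (ℕ × ℤ) := ([7, 7, 4], 0, 1, [(7004, -2)])

def ov_108 : List ℕ × ℕ × ℕ × List (ℕ × ℤ) := ([7, 4, 4], 0, 1, [(7004, 2), (8007, 1)])

def ov_109 : List ℕ × ℕ × ℕ × List (ℕ × ℤ) := ([7, 7, 5], 0, 1, [(7005, -2)])

def ov_110 : List ℕ × ℕ × ℕ × List (ℕ × ℤ) := ([7, 5, 5], 0, 1, [(7005, 2)])

def ov_111 : List ℕ × ℕ × ℕ × List (ℕ × ℤ) := ([7, 7, 6], 0, 1, [(7006, -2)])

def ov_112 : List ℕ × ℕ × ℕ × List (ℕ × ℤ) := ([7, 6, 6], 0, 1, [(7006, 2), (8007, 1)])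

def ov_113 : List ℕ × ℕ × ℕ × List (ℕ × ℤ) := ([8, 8, 0], 0, 1, [(8000, -2)])

def ov_114 : List ℕ × ℕ × ℕ × List (ℕ × ℤ) := ([8, 0, 0], 0, 1, [(8000, 2)])

def ov_115 : List ℕ × ℕ × ℕ × List (ℕ × ℤ) := ([8, 8, 1], 0, 1, [(8001, -2)])

def ov_116 : List ℕ × ℕ × ℕ × List (ℕ × ℤ) := ([8, 1, 1], 0, 1, [(8001, 2)])

def ov_117 : List ℕ × ℕ × ℕ × List (ℕ × ℤ) := ([8, 8, 2], 0, 1, [(8002, -2)])

def ov_118 : List ℕ × ℕ × ℕ × List (ℕ × ℤ) := ([8, 2, 2], 0, 1, [(8002, 2)])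

def ov_119 : List ℕ × ℕ × ℕ × List (ℕ × ℤ) := ([8, 8, 3], 0, 1, [(8003, -2)])

def ov_120 : List ℕ × ℕ × ℕ × List (ℕ × ℤ) := ([8, 3, 3], 0, 1, [(8003, 2)])

def ov_121 : List ℕ × ℕ × ℕ × List (ℕ × ℤ) := ([8, 8, 4], 0, 1, [(8004, -2)])

def ov_122 : List ℕ × ℕ × ℕ × List (ℕ × ℤ) := ([8, 4, 4], 0, 1, [(8004, 2)])

def ov_123 : List ℕ × ℕ × ℕ × List (ℕ × ℤ) := ([8, 8, 5], 0, 1, [(8005, -2)])

def ov_124 : List ℕ × ℕ × ℕ × List (ℕ × ℤ) := ([8, 5, 5], 0, 1, [(8005, 2)])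

def ov_125 : List ℕ × ℕ × ℕ × List (ℕ × ℤ) := ([8, 8, 6], 0, 1, [(8006, -2)])

def ov_126 : List ℕ × ℕ × ℕ × List (ℕ × ℤ) := ([8, 6, 6], 0, 1, [(8006, 2)])

def ov_127 : List ℕ × ℕ × ℕ × List (ℕ × ℤ) := ([8, 8, 7], 0, 1, [(8007, -2)])

def ov_128 : List ℕ × ℕ × ℕ × List (ℕ × ℤ) := ([8, 7, 7], 0, 1, [(8007, 2)])

def ov_129 : List ℕ × ℕ × ℕ × List (ℕ × ℤ) := ([0, 0, 0], 0, 1, [(8000, 1)])

def ov_130 : List ℕ × ℕ × ℕ × List (ℕ × ℤ) := ([3, 3, 3], 0, 1, [(8003, 1)])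

def ov_131 : List ℕ × ℕ × ℕ × List (ℕ × ℤ) := ([4, 4, 4], 0, 1, [(8004, 1)])

def ov_132 : List ℕ × ℕ × ℕ × List (ℕ × ℤ) := ([6, 6, 6], 0, 1, [(8006, 1)])

def fr_0 : ℕ × List ℕ × List ℕ × List (ℕ × ℤ) := (0, [0, 0], [3, 7], [(1000, 1), (1001, 1), (2001, 1), (3000, 1), (3002, 1), (3003, 1), (4000, 1), (4002, -1), (4003, 1), (4004, 1), (5002, 1), (5003, 1), (5004, 1), (6001, 1), (6002, 1), (6003, 2), (6004, 3), (7000, 1), (7001, 1), (7004, 1), (7006, 1), (7007, 1), (8001, 2), (8002, -1), (8003, 3), (8004, 1), (8006, 2), (8008, 4), (1000000, 2), (1000003, -1), (1000007, -1)])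

def fr_1 : ℕ × List ℕ × List ℕ × List (ℕ × ℤ) := (0, [1, 1], [], [(1000001, 2)])

def fr_2 : ℕ × List ℕ × List ℕ × List (ℕ × ℤ) := (0, [1, 0], [0, 1, 2, 3, 4, 6], [(1001, -1), (2001, -2), (3001, -1), (4001, -3), (5001, -1), (5003, -2), (5004, -2), (5005, -2), (6001, -1), (6003, 1), (6004, 2), (7001, -1), (7004, -2), (7005, -3), (7007, -3), (8002, 1), (8003, 1), (8004, -1), (8005, -1), (8007, -5), (8008, -2), (1000002, -1), (1000003, -1), (1000004, -1), (1000006, -1)])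

def fr_3 : ℕ × List ℕ × List ℕ × List (ℕ × ℤ) := (0, [2, 2], [], [(1001, 1), (3003, -1), (4001, 1), (4003, -1), (5001, 1), (5004, 1), (5005, 1), (6003, -1), (6004, -1), (6006, -1), (7001, 1), (7004, 1), (7005, 1), (7007, 1), (8001, 1), (8003, -1), (8004, -2), (8005, 3), (8006, -2), (8007, 3), (8008, -1), (1000002, 2)])

def fr_4 : ℕ × List ℕ × List ℕ × List (ℕ × ℤ) := (0, [2, 0], [0, 2, 5, 6], [(1000, 1), (2001, -1), (3000, -1), (4003, 1), (5000, 1), (5001, 1), (5002, 1), (5004, -1), (5005, -1), (6000, -1), (6001, 1), (6005, 1), (6006, 1), (7000, 1), (7001, -1), (7002, 1), (7004, -1), (7005, -1), (7007, 1), (8004, 1), (8005, 1), (8006, 1), (8008, 2), (1000005, -1), (1000006, -1)])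

def fr_5 : ℕ × List ℕ × List ℕ × List (ℕ × ℤ) := (0, [2, 1], [1, 2, 6, 7], [(3001, -1), (5001, 1), (6001, -1), (7001, 1), (7007, -1), (8004, -1), (8005, 1), (8008, -1), (1000006, -1), (1000007, -1)])

def fr_6 : ℕ × List ℕ × List ℕ × List (ℕ × ℤ) := (0, [3, 3], [7], [(3003, 1), (4003, 1), (5003, 1), (5004, 1), (5005, 1), (6003, 1), (6004, 1), (6005, 1), (6006, 1), (7003, 1), (7006, 1), (7007, 1), (8003, 1), (8004, 1), (8005, 2), (8006, 3), (8007, 1), (8008, 2), (1000003, 2), (1000007, -1)])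

def fr_7 : ℕ × List ℕ × List ℕ × List (ℕ × ℤ) := (0, [3, 0], [0, 3], [(3000, 1), (3001, 1), (3002, 1), (4001, 1), (5000, 1), (5001, 1), (5002, 1), (5003, 1), (5004, 1), (6000, 1), (6003, 1), (6004, 2), (6005, 1), (6006, 1), (7000, 1), (7003, -1), (7005, -1), (7006, 1), (7007, 1), (8004, 1), (8005, 3), (8006, 3), (8007, 2), (8008, 4)])

def fr_8 : ℕ × List ℕ × List ℕ × List (ℕ × ℤ) := (0, [3, 1], [1, 3, 7], [(3001, 1), (5001, 1), (6001, 1), (7001, 1), (8004, 1), (8008, 1), (1000007, -1)])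

def fr_9 : ℕ × List ℕ × List ℕ × List (ℕ × ℤ) := (0, [3, 2], [2, 3], [(3001, 1), (4001, 1), (4003, -2), (5001, 1), (5003, -1), (6001, 1), (6004, 2), (6005, 1), (7001, 1), (7003, -1), (8001, 1), (8003, -2), (8005, 1), (8006, 2), (8007, 1), (8008, 2)])

def fr_10 : ℕ × List ℕ × List ℕ × List (ℕ × ℤ) := (0, [4, 4], [], [(1001, 1), (5001, 1), (7001, 1), (7005, 1), (7007, 1), (1000004, 2)])

def fr_11 : ℕ × List ℕ × List ℕ × List (ℕ × ℤ) := (0, [4, 0], [0, 4, 5, 7], [(1000, 1), (2001, -1), (3002, 1), (4001, -1), (4003, -1), (5001, 1), (5005, -1), (6001, 1), (6005, 1), (6006, 1), (7000, 1), (7001, -1), (7004, -1), (7005, -1), (8002, -1), (8004, -1), (8005, 1), (8006, 2), (8007, 3), (8008, 1), (1000005, -1), (1000007, -1)])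

def fr_12 : ℕ × List ℕ × List ℕ × List (ℕ × ℤ) := (0, [4, 1], [1, 4], [(7001, 1)])

def fr_13 : ℕ × List ℕ × List ℕ × List (ℕ × ℤ) := (0, [4, 2], [2, 4, 6, 7], [(4001, -1), (5003, -1), (6005, 1), (7006, -1), (7007, -1), (8001, -1), (8007, -1), (1000006, -1), (1000007, -1)])

def fr_14 : ℕ × List ℕ × List ℕ × List (ℕ × ℤ) := (0, [4, 3], [3, 4], [(3001, -1), (4001, -1), (5001, -1), (5003, 1), (6001, -1), (6005, -1), (7001, -1), (7003, 1), (8001, -1), (8004, -1), (8005, 1), (8007, -2), (8008, -2)])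

def fr_15 : ℕ × List ℕ × List ℕ × List (ℕ × ℤ) := (0, [5, 5], [7], [(3003, 1), (5003, 1), (5005, 1), (6006, -1), (7003, 1), (7006, -1), (8003, 1), (8005, 1), (8008, 1), (1000005, 2), (1000007, -1)])

def fr_16 : ℕ × List ℕ × List ℕ × List (ℕ × ℤ) := (0, [5, 0], [0, 5, 7], [(3000, 1), (3001, 1), (3002, 1), (4003, -1), (5000, 1), (5001, 1), (5002, 1), (5003, 1), (5004, 1), (6000, -1), (6001, 1), (6005, 1), (6006, 1), (7005, -1), (7007, 1), (8000, 1), (8002, -1), (8005, 2), (8006, 3), (8007, 3), (8008, 3), (1000007, -1)])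

def fr_17 : ℕ × List ℕ × List ℕ × List (ℕ × ℤ) := (0, [5, 1], [1, 5, 6, 7], [(3001, 1), (5001, 1), (6001, -1), (7007, -1), (8001, 1), (8005, 1), (8007, -2), (1000006, -1), (1000007, -1)])

def fr_18 : ℕ × List ℕ × List ℕ × List (ℕ × ℤ) := (0, [5, 2], [2, 5, 7], [(3001, 1), (4003, -1), (5001, 1), (5003, -1), (5004, 1), (6003, -1), (6004, -1), (7001, 1), (7003, -2), (7005, 1), (7006, -1), (7007, -1), (8001, 1), (8003, -1), (8004, -1), (8007, -2), (1000007, -1)])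

def fr_19 : ℕ × List ℕ × List ℕ × List (ℕ × ℤ) := (0, [5, 3], [3, 5], [(4003, -1), (5004, 1), (6003, -1), (6004, -1), (6005, -1), (7004, -1), (7006, -1), (8004, -1), (8005, -1), (8007, 2), (8008, -1)])

def fr_20 : ℕ × List ℕ × List ℕ × List (ℕ × ℤ) := (0, [5, 4], [4, 5, 7], [(3001, 1), (5001, 1), (5003, -1), (6005, -1), (7001, 1), (7003, -1), (7007, -1), (8001, 1), (8005, 1), (8007, -1), (1000007, -1)])

def fr_21 : ℕ × List ℕ × List ℕ × List (ℕ × ℤ) := (0, [6, 6], [], [(1000006, 2)])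

def fr_22 : ℕ × List ℕ × List ℕ × List (ℕ × ℤ) := (0, [6, 0], [0, 6], [(7001, 1), (7003, 1), (7004, 1), (8001, 1)])

def fr_23 : ℕ × List ℕ × List ℕ × List (ℕ × ℤ) := (0, [6, 2], [2, 6], [(7001, 1), (7003, -1), (7005, 1), (7006, -1)])

def fr_24 : ℕ × List ℕ × List ℕ × List (ℕ × ℤ) := (0, [6, 3], [3, 6], [(7003, 1), (7005, 1), (7006, 1)])

def fr_25 : ℕ × List ℕ × List ℕ × List (ℕ × ℤ) := (0, [6, 4], [4, 6], [(7001, 1)])

def fr_26 : ℕ × List ℕ × List ℕ × List (ℕ × ℤ) := (0, [6, 5], [5, 6], [(7003, 1), (7005, 1), (7006, -1), (8007, -1)])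

def fr_27 : ℕ × List ℕ × List ℕ × List (ℕ × ℤ) := (0, [7, 7], [], [(7007, 1), (8007, 1), (1000007, 2)])

def fr_28 : ℕ × List ℕ × List ℕ × List (ℕ × ℤ) := (0, [7, 0], [0, 7], [(7000, 1), (7001, 1), (7002, 1), (7003, 1), (7004, 1), (8002, -1), (8003, 1), (8004, 1), (8007, 1), (8008, 1)])

def fr_29 : ℕ × List ℕ × List ℕ × List (ℕ × ℤ) := (0, [7, 1], [1, 7], [(7001, 1)])

def fr_30 : ℕ × List ℕ × List ℕ × List (ℕ × ℤ) := (0, [7, 2], [2, 7], [(7001, 1), (7004, 1), (7005, 1), (8001, 1), (8003, -1), (8005, 1), (8006, -1)])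

def fr_31 : ℕ × List ℕ × List ℕ × List (ℕ × ℤ) := (0, [7, 3], [3, 7], [(7003, 1), (7004, 1), (7005, 1), (7006, 1), (8003, 1), (8005, 1), (8006, 1)])

def fr_32 : ℕ × List ℕ × List ℕ × List (ℕ × ℤ) := (0, [7, 4], [4, 7], [(7001, 1), (7005, 1), (8001, 1), (8007, 1)])

def fr_33 : ℕ × List ℕ × List ℕ × List (ℕ × ℤ) := (0, [7, 5], [5, 7], [(7003, 1), (7005, 1), (8003, 1), (8005, 1), (8006, -1), (8007, -1)])

def fr_34 : ℕ × List ℕ × List ℕ × List (ℕ × ℤ) := (1, [0, 0], [3, 4, 6], [(2002, -1), (3001, -1), (3002, -1), (3003, -1), (4001, -1), (4002, -2), (4003, -1), (4004, -2), (5001, -1), (5003, -1), (5004, -2), (5005, -1), (6002, -1), (6003, -1), (6004, -3), (6005, -1), (6006, -1), (7001, -1), (7002, -1), (7004, -2), (7005, -1), (7006, -1), (7007, -2), (8002, -1), (8003, -1), (8004, -3), (8005, -2), (8006, -5), (8007, -3), (8008, -7), (1001000, 2), (1001003, -1), (1001004, -1),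 (1001006, -1)])

def fr_35 : ℕ × List ℕ × List ℕ × List (ℕ × ℤ) := (1, [1, 1], [], [(4002, 1), (4004, 1), (8004, 1), (8008, 1), (1001001, 2)])

def fr_36 : ℕ × List ℕ × List ℕ × List (ℕ × ℤ) := (1, [1, 0], [0, 1, 3, 4, 6], [(2002, -1), (3002, 1), (4001, 1), (4002, 1), (4004, -1), (5003, -1), (5004, -1), (6002, -1), (6005, 2), (7004, -2), (7007, -1), (8004, -2), (8005, 3), (8006, -1), (8007, 1), (1001003, -1), (1001004, -1), (1001006, -1)])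

def fr_37 : ℕ × List ℕ × List ℕ × List (ℕ × ℤ) := (1, [2, 2], [6], [(5004, 1), (5005, 1), (8005, 1), (1001002, 2), (1001006, -1)])

def fr_38 : ℕ × List ℕ × List ℕ × List (ℕ × ℤ) := (1, [2, 0], [0, 2], [(4003, -1), (5001, 1), (5002, 1), (5004, 1), (7004, 1), (8003, -1), (8004, -1), (8005, 3), (8007, 1)])

def fr_39 : ℕ × List ℕ × List ℕ × List (ℕ × ℤ) := (1, [2, 1], [1, 2, 6], [(5002, 1), (5004, 1), (8005, 1), (1001006, -1)])

def fr_40 : ℕ × List ℕ × List ℕ × List (ℕ × ℤ) := (1, [3, 3], [], [(2002, 1), (4002, 1), (4004, 1), (5002, 1), (5004, 1), (6002, 1), (6004, 1), (6005, 1), (6006, 1), (7002, 1), (7004, 1), (7005, 1), (7006, 1), (7007, 1), (8002, 1), (8005, 3), (8006, 2), (8007, 4), (8008, 4), (1001003, 2)])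

def fr_41 : ℕ × List ℕ × List ℕ × List (ℕ × ℤ) := (1, [3, 0], [0, 3, 5], [(2001, 1), (4001, 1), (4002, 1), (5002, -1), (5003, -1), (6001, 1), (6002, 1), (6005, -1), (7001, 1), (7004, -1), (7005, -1), (8001, 1), (8002, 1), (8006, 2), (8008, 1), (1001005, -1)])

def fr_42 : ℕ × List ℕ × List ℕ × List (ℕ × ℤ) := (1, [3, 1], [1, 3], [(5004, 1), (6002, 1), (6004, 1), (7002, 1), (7004, 1), (8002, 1), (8004, -1), (8005, 2), (8006, 2), (8007, 1), (8008, 1)])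

def fr_43 : ℕ × List ℕ × List ℕ × List (ℕ × ℤ) := (1, [3, 2], [2, 3], [(4002, -1), (5002, -1), (5004, -1), (6004, 1), (6005, 1), (7004, 1), (7005, 1), (8002, -1), (8004, 1), (8005, -1), (8007, 1)])

def fr_44 : ℕ × List ℕ × List ℕ × List (ℕ × ℤ) := (1, [4, 4], [6], [(2002, 1), (4002, 1), (4004, 1), (6002, 1), (6004, 1), (7002, 1), (7004, 1), (8002, 1), (8006, 3), (8008, 3), (1001004, 2), (1001006, -1)])

def fr_45 : ℕ × List ℕ × List ℕ × List (ℕ × ℤ) := (1, [4, 0], [0, 4, 5], [(2001, 1), (4001, 1), (4002, 1), (5002, 1), (5004, 1), (6003, -1), (6004, -1), (6005, -2), (7005, -1), (7006, 1), (8001, 1), (8004, -1), (8005, -1), (8006, 2), (8007, -1), (8008, -1), (1001005, -1)])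

def fr_46 : ℕ × List ℕ × List ℕ × List (ℕ × ℤ) := (1, [4, 1], [1, 4], [(6004, 1), (7004, 1), (8002, 1), (8004, -1), (8006, 2)])

def fr_47 : ℕ × List ℕ × List ℕ × List (ℕ × ℤ) := (1, [4, 2], [2, 4], [(4002, -1), (5002, -1), (5004, -1), (6005, 1), (7005, 1), (8002, -1), (8004, 1), (8005, -2), (8006, 1), (8007, 2)])

def fr_48 : ℕ × List ℕ × List ℕ × List (ℕ × ℤ) := (1, [4, 3], [3, 4, 6], [(5002, -1), (5004, -1), (8005, -1), (8006, -1), (8007, 1), (1001006, -1)])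

def fr_49 : ℕ × List ℕ × List ℕ × List (ℕ × ℤ) := (1, [5, 5], [], [(5005, 1), (7005, 1), (8005, 1), (8007, 1), (8008, 1), (1001005, 2)])

def fr_50 : ℕ × List ℕ × List ℕ × List (ℕ × ℤ) := (1, [5, 0], [0, 5, 6], [(5001, 1), (5002, 1), (7003, -1), (7004, -1), (7005, -1), (8001, 1), (8002, 1), (8003, -1), (8004, -1), (8005, -1), (8007, -1), (1001006, -1)])

def fr_51 : ℕ × List ℕ × List ℕ × List (ℕ × ℤ) := (1, [5, 1], [1, 5, 6], [(5002, 1), (5004, 1), (7004, 1), (8002, 1), (1001006, -1)])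

def fr_52 : ℕ × List ℕ × List ℕ × List (ℕ × ℤ) := (1, [5, 2], [2, 5], [(5004, 1), (7005, 1), (8004, 1)])

def fr_53 : ℕ × List ℕ × List ℕ × List (ℕ × ℤ) := (1, [5, 3], [3, 5], [(5002, 1), (5004, 1), (6005, -1), (7002, 1), (7004, 1), (7005, -1), (7006, 1), (8002, 1), (8005, -1), (8007, -1)])

def fr_54 : ℕ × List ℕ × List ℕ × List (ℕ × ℤ) := (1, [5, 4], [4, 5], [(5002, 1), (5004, 1), (6005, -1), (7002, 1), (7004, 1), (7005, -1), (8002, 1), (8005, -1), (8007, -1)])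

def fr_55 : ℕ × List ℕ × List ℕ × List (ℕ × ℤ) := (1, [6, 6], [], [(1001006, 2)])

def fr_56 : ℕ × List ℕ × List ℕ × List (ℕ × ℤ) := (1, [6, 0], [0, 6], [(8003, -1), (8004, -1), (8005, -1), (8007, -1)])

def fr_57 : ℕ × List ℕ × List ℕ × List (ℕ × ℤ) := (1, [6, 1], [1, 6], [(8004, 1)])

def fr_58 : ℕ × List ℕ × List ℕ × List (ℕ × ℤ) := (1, [6, 2], [2, 6], [(8005, 1)])

def fr_59 : ℕ × List ℕ × List ℕ × List (ℕ × ℤ) := (1, [6, 3], [3, 6], [(8002, 1), (8004, 1), (8006, 1), (8007, 1)])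

def fr_60 : ℕ × List ℕ × List ℕ × List (ℕ × ℤ) := (1, [6, 4], [4, 6], [(8002, 1), (8004, 1)])

def fr_61 : ℕ × List ℕ × List ℕ × List (ℕ × ℤ) := (1, [6, 5], [5, 6], [(8005, 1)])

def tg_0 : ℕ × ℤ × List (ℕ × ℤ) := (6005, -1, [(7, 1), (11, -2), (12, 1), (15, 1), (17, 1), (20, 1), (24, -1), (31, 1), (34, -1), (35, 1), (44, -1), (56, -1)])

def tg_1 : ℕ × ℤ × List (ℕ × ℤ) := (6001, -1, [(4, 1), (9, 1), (11, -3), (12, 1), (15, 1), (17, 1), (20, 1), (24, -1), (34, -1), (42, -1), (44, -1), (56, -1), (89, 1), (135, 3)])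

def tg_2 : ℕ × ℤ × List (ℕ × ℤ) := (6003, -1, [(11, -1), (31, -1), (73, -1), (74, -1), (135, 1)])

def tg_3 : ℕ × ℤ × List (ℕ × ℤ) := (4001, 0, [(5, 1), (6, -1), (7, -7), (8, 1), (10, 1), (12, -3), (15, 2), (22, -5), (24, 1), (31, -1), (34, -1), (40, 1), (42, -1), (44, -4), (56, -2), (67, 1), (68, 1), (69, 1), (89, 1), (135, 4), (147, -1), (151, 1), (155, 1), (178, 1), (189, -1)])

def tg_4 : ℕ × ℤ × List (ℕ × ℤ) := (5000, 0, [(3, 1), (4, 1), (5, 1), (7, -6), (8, 1), (11, 1), (12, -3), (17, -1), (20, -1), (22, -5), (24, 2), (31, -4), (35, -1), (40, 1), (42, -1), (44, -3), (56, -1), (67, 1), (68, 1), (69, 1), (74, -1), (89, 1), (135, 4), (147, -1), (151, 1), (155, 1), (178, 1), (189, -1)])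

def tg_5 : ℕ × ℤ × List (ℕ × ℤ) := (7002, 1, [(5, 2), (7, -1), (11, 2), (12, -1), (15, -1), (17, -1), (24, 1), (31, -1), (34, 1), (44, -1), (69, 1), (135, -2)])

def tg_6 : ℕ × ℤ × List (ℕ × ℤ) := (6006, 1, [(3, -2), (5, 2), (56, -1), (69, 1), (74, 1), (135, -1)])

def tg_7 : ℕ × ℤ × List (ℕ × ℤ) := (4002, -1, [(7, -3), (12, -1), (15, 2), (17, 1), (20, 1), (22, -3), (24, -1), (31, 2), (34, -1), (35, 1), (40, 1), (44, -1), (56, -2), (67, 1), (68, 1), (135, 2), (178, 1), (182, -1), (189, -1)])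

def tg_8 : ℕ × ℤ × List (ℕ × ℤ) := (7000, -1, [(7, 1), (11, -1), (25, 1), (31, -1), (40, -1), (44, 1), (73, -1), (74, -1), (135, -1)])

def tg_9 : ℕ × ℤ × List (ℕ × ℤ) := (4000, -1, [(7, -3), (11, 1), (12, -1), (15, 2), (17, 1), (20, 1), (22, -3), (24, -1), (31, 2), (35, 1), (40, 1), (44, -1), (56, -2), (65, 1), (66, 1), (67, 1), (68, 1), (135, 1), (178, 1), (182, -1), (189, -1)])

def tg_10 : ℕ × ℤ × List (ℕ × ℤ) := (4004, 1, [(1, -2), (5, 2), (7, 3), (12, 1), (15, -2), (17, -1), (20, -1), (22, 3), (24, 1), (31, -2), (34, 2), (35, -1), (40, -1), (44, 1), (56, 1), (65, -1), (67, -1), (68, -1), (69, 1), (135, -3), (178, -1), (182, 1), (189, 1)])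

def tg_11 : ℕ × ℤ × List (ℕ × ℤ) := (5002, 0, [(7, 2), (12, 1), (22, 1), (24, -1), (34, -1), (40, -1), (42, -1), (44, 1), (67, -1), (68, -1), (135, -2), (178, -1), (189, 1)])

def tg_12 : ℕ × ℤ × List (ℕ × ℤ) := (5005, 0, [(2, -2), (7, -2), (12, -1), (22, -1), (24, 1), (34, 1), (40, 1), (42, 1), (44, -1), (68, 1), (135, 2), (178, 1), (189, -1)])

def tg_13 : ℕ × ℤ × List (ℕ × ℤ) := (5001, 0, [(7, 2), (12, 1), (22, 1), (24, -1), (34, -1), (40, -1), (42, -1), (44, 1), (135, -2), (178, -1), (189, 1)])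

def tg_14 : ℕ × ℤ × List (ℕ × ℤ) := (6000, 0, [(7, -1), (8, 1), (10, 1), (11, -1), (15, 1), (34, -1), (56, -1), (135, 1)])

def tg_15 : ℕ × ℤ × List (ℕ × ℤ) := (3001, 0, [(5, 1), (7, -1), (56, -1), (63, -1), (64, -1), (135, 1)])

def tg_16 : ℕ × ℤ × List (ℕ × ℤ) := (3003, 0, [(0, -2), (5, 1), (7, 1), (56, 1), (64, 1), (69, 1), (135, -2)])

def tg_17 : ℕ × ℤ × List (ℕ × ℤ) := (7007, 0, [(4, -2), (7, 1), (22, 1), (42, 1), (89, -1), (135, -1)])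

def tg_18 : ℕ × ℤ × List (ℕ × ℤ) := (8008, 0, [(5, -2), (56, 1), (69, -1), (135, 1)])

def tg_19 : ℕ × ℤ × List (ℕ × ℤ) := (7005, 0, [(7, -1), (22, -1), (42, -1), (135, 1)])

def tg_20 : ℕ × ℤ × List (ℕ × ℤ) := (7003, 0, [(7, 1), (40, -1), (56, 1), (135, -1)])

def tg_21 : ℕ × ℤ × List (ℕ × ℤ) := (7006, 0, [(35, 1), (44, -1), (135, -1)])

def tg_22 : ℕ × ℤ × List (ℕ × ℤ) := (6004, 0, [(15, 1), (31, 1), (56, -1)])

def tg_23 : ℕ × ℤ × List (ℕ × ℤ) := (5004, 0, [(7, 1), (11, -1), (12, 1)])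

def tg_24 : ℕ × ℤ × List (ℕ × ℤ) := (8002, 0, [(11, -1), (135, 1)])

def tg_25 : ℕ × ℤ × List (ℕ × ℤ) := (4003, 0, [(7, 1), (10, -1)])

def tg_26 : ℕ × ℤ × List (ℕ × ℤ) := (8001, 0, [(7, -1), (135, 1)])

def tg_27 : ℕ × ℤ × List (ℕ × ℤ) := (7001, 0, [(151, 1)])

def tg_28 : ℕ × ℤ × List (ℕ × ℤ) := (8000, 0, [(135, 1)])

def tg_29 : ℕ × ℤ × List (ℕ × ℤ) := (8003, 0, [(56, -1)])

def tg_30 : ℕ × ℤ × List (ℕ × ℤ) := (8007, 0, [(44, 1)])

def tg_31 : ℕ × ℤ × List (ℕ × ℤ) := (8004, 0, [(34, -1)])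

def tg_32 : ℕ × ℤ × List (ℕ × ℤ) := (8006, 0, [(31, 1)])

def tg_33 : ℕ × ℤ × List (ℕ × ℤ) := (7004, 0, [(24, -1)])

def tg_34 : ℕ × ℤ × List (ℕ × ℤ) := (8005, 0, [(22, 1)])

def tg_35 : ℕ × ℤ × List (ℕ × ℤ) := (3000, 0, [(5, 1)])

def tg_36 : ℕ × ℤ × List (ℕ × ℤ) := (5003, 0, [(4, 1)])

def tg_37 : ℕ × ℤ × List (ℕ × ℤ) := (3002, 0, [(3, 1)])

def tg_38 : ℕ × ℤ × List (ℕ × ℤ) := (2001, 0, [(2, 1)])

def tg_39 : ℕ × ℤ × List (ℕ × ℤ) := (2000, 0, [(1, 1)])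

def tg_40 : ℕ × ℤ × List (ℕ × ℤ) := (1000, 0, [(0, 1)])

def tg_41 : ℕ × ℤ × List (ℕ × ℤ) := (6002, -1, [])

def C : Cert where
  p := 2
  n := 9
  r := 3
  fuel := 67
  rules := [rule_0, rule_1, rule_2, rule_3, rule_4, rule_5, rule_6, rule_7, rule_8]
  defs := [(1, 0), (2, 0), (2, 1), (3, 2), (5, 3), (3, 0)]
  items := [item_0, item_1]
  ovs := [ov_0, ov_1, ov_2, ov_3, ov_4, ov_5, ov_6, ov_7, ov_8, ov_9, ov_10, ov_11, ov_12, ov_13, ov_14, ov_15, ov_16, ov_17, ov_18, ov_19, ov_20, ov_21, ov_22, ov_23, ov_24, ov_25, ov_26, ov_27, ov_28, ov_29, ov_30, ov_31, ov_32, ov_33, ov_34, ov_35, ov_36, ov_37, ov_38, ov_39, ov_40, ov_41, ov_42, ov_43, ov_44, ov_45, ov_46, ov_47, ov_48, ov_49, ov_50, ov_51, ov_52, ov_53, ov_54, ov_55, ov_56, ov_57, ov_58, ov_59, ov_60, ov_61, ov_62, ov_63, ov_64, ov_65, ov_66, ov_67, ov_68, ov_69, ov_70, ov_71, ov_72, ov_73, ov_74, ov_75, ov_76, ov_77,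 ov_78, ov_79, ov_80, ov_81, ov_82, ov_83, ov_84, ov_85, ov_86, ov_87, ov_88, ov_89, ov_90, ov_91, ov_92, ov_93, ov_94, ov_95, ov_96, ov_97, ov_98, ov_99, ov_100, ov_101, ov_102, ov_103, ov_104, ov_105, ov_106, ov_107, ov_108, ov_109, ov_110, ov_111, ov_112, ov_113, ov_114, ov_115, ov_116, ov_117, ov_118, ov_119, ov_120, ov_121, ov_122, ov_123, ov_124, ov_125, ov_126, ov_127, ov_128, ov_129, ov_130, ov_131, ov_132]
  frs := [fr_0, fr_1, fr_2, fr_3, fr_4, fr_5, fr_6, fr_7, fr_8, fr_9, fr_10, fr_11, fr_12, fr_13, fr_14, fr_15, fr_16, fr_17, fr_18, fr_19, fr_20, fr_21, fr_22, fr_23, fr_24, fr_25, fr_26, fr_27, fr_28, fr_29, fr_30, fr_31, fr_32, fr_33, fr_34, fr_35, fr_36, fr_37, fr_38, fr_39, fr_40, fr_41, fr_42, fr_43, fr_44, fr_45, fr_46, fr_47, fr_48, fr_49, fr_50, fr_51, fr_52, fr_53, fr_54, fr_55, fr_56, fr_57, fr_58, fr_59, fr_60, fr_61]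
  k0 := 6002
  zm := 2
  zcomb := [(5, 2), (7, 2), (11, 2), (15, -2), (17, -2), (20, -1), (22, 1), (31, -2), (34, 1), (35, -1), (40, -1), (56, 1), (67, -1), (68, -1), (69, 1), (135, -4), (178, -1), (189, 1), (193, -1)]
  targets := [tg_0, tg_1, tg_2, tg_3, tg_4, tg_5, tg_6, tg_7, tg_8, tg_9, tg_10, tg_11, tg_12, tg_13, tg_14, tg_15, tg_16, tg_17, tg_18, tg_19, tg_20, tg_21, tg_22, tg_23, tg_24, tg_25, tg_26, tg_27, tg_28, tg_29, tg_30, tg_31, tg_32, tg_33, tg_34, tg_35, tg_36, tg_37, tg_38, tg_39, tg_40, tg_41]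

def codes : List ℕ := [1603719265802080071445038742860623367399920789938005282222990975154910497637920641180753608554633581244801597710145697385811160195962791261624965012489726372198641215769440269760169812357496126326887610849835358535276808575148319879005954496938194322763980138186859086339, 1405964702890778332624548769680304180261881546969128728877616461122406030226757114791361682825830568355788080546780801375947223518069745647022630325698309833368963939174579939353125206612162629343485869300107593563292783825464491538890091702437682309957304295486826506752, 1621100331648765567201332177011662971498924853503339858378979235754352443683797797692338888684529836328304714075966256377391055960692116407644334567141013499797251348826153614526137623826629175298344682388873175395298644491792885714154654425916003698976058393595543552512, 679559528837471233340914576049158330892428008950790759834855077101378906396048628611765738538624039167852743995765683051188786886017076588250859471773350799191196495076561980572146832081221126853984079658723206684357501808101830347300752443710612580345469152518800179215,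 1620389122482232650155438784999906344585724370697990468212664599555905029268532283045237191417393430031270012453179385451619972199769739610462431871997005564146203396042402580317398897583924246369731342677479030849155100071500645106547670359107386490805132397254208389665, 1571411496659730124265271776513711280791879653328073790977052360817363623681414109885855583439336435037679126979657458675905890126435592713050883977730282140753229183767639456894170768354005413119212521396933202219372174532861811275666565315837878734852448713601833501184, 893142692449889714809372618665617641168982689987590253025343174728156402705753816671785620212266278844378677035534260600400771976611061401518038815999504185485935017032277397468863633661166196689077836983236128057030220830045206619336916055331855524358659449565244600902, 462387452703253446654891090202423449434899545018870007497302619113774608334326249209055063750191402990786284710723394830243974352860177744963029396033566178001211327071444722608208473568764538115392420158623988588723429365757999191022129208583700108141427896934261895748,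 1273600869247324193478392945768624512472126138686364786293551466786272149763559959025931404672292081178502113534892950004008171735082106986013285890903809452050900159713050035764391625245237795226780600228707006494832183708578806536888075399175945281349302124603509309981]

def conj : List ℕ := [1406444337081940142616025345298361018339555356952806723324082687045180635958592813659457886285953997355342208678347844916232141862996704362176345309149914000034392478788568976351240607754179749328460030283851071654428274990433061300281607216418361586400838933034122369035, 479381332158548938651522481283253077918936457474923581148679574224233024112465350382631951916352858130943453216289330962560273654838909438498062602681021677755581027559747728422417852053622722535868328880969339609830813820408341706604834729200688776076673632602057126474]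

def codesW : List (List ℕ) := [[1, 0, 1, 0, 0, 0, 0, 3, 0, 3, 3, 2, 1, 1, 0, 3, 0, 3], [2, 1, 0, 1, 0, 1, 2, 3, 2, 1, 1, 0, 3, 2, 3, 2], [1, 0, 1, 1, 0, 3, 2, 1, 2, 1, 0, 0, 1, 2, 3, 3], [1, 1, 0, 1, 0, 0, 0, 1, 0, 1, 2, 1, 2, 1, 2, 1, 2], [3, 2, 3, 0, 0, 1, 1, 0, 1, 0, 3, 2, 3, 0, 0], [2, 3, 2, 1, 2, 1, 0, 1, 0, 3, 0, 1, 2, 1], [3, 3, 0, 1, 2, 1, 0, 1, 0, 3, 2, 1, 2, 1, 2, 2, 2, 2], [3, 2, 3, 2, 1, 1, 0, 3, 3, 2, 1, 1, 0, 3, 0, 1], [2, 1, 0, 3, 3, 2, 1, 2, 1, 0, 1, 1, 2, 3, 0, 1, 2]]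

def conjW : List (List ℕ) := [[0, 0, 0, 0, 1, 2, 2, 3, 3, 3, 2, 1, 1, 2], [3, 2, 3, 2, 2, 1, 2, 2, 2, 2, 2, 3, 3, 2, 2, 2]]

def base : List ℕ := [0, 3]

def ord : List ℕ := [257, 267, 235, 277, 351, 191, 245, 225, 0, 20, 500, 480, 10, 490, 446, 94, 190, 350, 266, 234, 244, 256, 224, 276, 40, 322, 86, 156, 456, 162, 380, 438, 39, 13, 51, 441, 89, 467, 493, 455, 7, 173, 19, 333, 281, 487, 249, 499, 261, 431, 273, 79, 27, 507, 241, 229, 34, 328, 54, 168, 470, 450, 284, 252, 3, 9, 23, 93, 503, 483, 489, 445, 60, 118, 354, 360, 136, 130, 476, 406, 35, 169, 329, 55, 253, 285, 451, 471, 348, 278, 264, 258, 188, 232, 246, 226, 293, 271, 305, 347, 197, 209, 239, 187, 289, 427, 309, 31, 213, 193, 75, 511, 259, 233, 279, 265, 349, 189, 227, 247, 37, 495, 49, 443, 465, 453, 15, 91, 28, 310, 290, 72, 424, 508, 214, 194, 4, 334, 174, 484, 496, 16, 250, 282, 1, 491, 21, 11, 95, 447,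 501, 481, 506, 26, 272, 240, 78, 260, 228, 430, 2, 8, 22, 488, 502, 482, 92, 444, 33, 331, 53, 255, 469, 449, 171, 287, 5, 335, 175, 17, 283, 251, 485, 497, 291, 73, 311, 29, 215, 195, 425, 509, 24, 76, 262, 274, 428, 504, 230, 242, 344, 268, 294, 306, 184, 236, 210, 198, 56, 364, 82, 326, 140, 166, 472, 434, 114, 358, 44, 152, 460, 134, 376, 402, 6, 18, 332, 172, 498, 486, 280, 248, 38, 50, 12, 492, 454, 466, 88, 440, 36, 464, 452, 48, 14, 494, 90, 442, 32, 52, 468, 448, 170, 330, 286, 254, 304, 196, 208, 292, 238, 186, 346, 270, 212, 192, 288, 308, 74, 510, 426, 30, 457, 41, 157, 381, 323, 87, 163, 439, 361, 137, 61, 477, 119, 355, 131, 407, 45, 461, 377, 115, 359, 135, 153, 403, 105, 317, 99, 375, 387, 151, 393, 221, 109, 217, 313, 339, 71, 179, 397, 423, 297, 125, 343, 67, 419, 183, 201, 413, 58, 142, 366, 80, 324, 164, 474, 432, 158, 458, 42, 160, 84, 320, 382, 436,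 63, 479, 117, 405, 363, 139, 353, 129, 143, 367, 59, 475, 165, 433, 325, 81, 459, 43, 159, 383, 321, 437, 85, 161, 399, 111, 219, 315, 337, 69, 421, 177, 107, 395, 97, 385, 223, 319, 373, 149, 203, 299, 127, 415, 341, 417, 65, 181, 362, 138, 62, 128, 352, 116, 478, 404, 46, 462, 154, 112, 132, 356, 378, 400, 124, 342, 296, 66, 200, 418, 412, 182, 295, 237, 269, 307, 345, 199, 185, 211, 104, 98, 374, 392, 220, 386, 316, 150, 263, 77, 275, 25, 505, 243, 429, 231, 120, 300, 370, 102, 204, 390, 408, 146, 338, 70, 108, 396, 216, 422, 312, 178, 141, 365, 57, 83, 327, 167, 473, 435, 301, 121, 409, 371, 103, 147, 205, 391, 126, 298, 202, 64, 340, 416, 414, 180, 218, 110, 398, 420, 336, 68, 314, 176, 113, 357, 133, 401, 47, 463, 155, 379, 303, 207, 123, 411, 101, 369, 389, 145, 222, 394, 106, 372, 384, 96, 318, 148, 206, 122, 302, 388, 368, 100, 410, 144]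


end Cfsg.Agent.Lib.HSSch.P2
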