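import Cfsg.Agent.Lib.Schur.PcPerm

/-!
# A tail certificate for a Sylow 5-subgroup of `HS` (generated by a script)
-/

set_option autoImplicit false
set_option maxRecDepth 100000
set_option maxHeartbeats 0

namespace Cfsg.Agent.Lib.HSSch.P5

open Cfsg.Agent.Lib.Schur.PcMain Cfsg.Agent.Lib.Schur.PcPerm

def rule_0 : List (List ℕ) := [[]]

def rule_1 : List (List ℕ) := [[1, 2], []]

def rule_2 : List (List ℕ) := [[2], [2], []]

def item_0 : List (List ℕ) × List (List ℕ) := ([[0], [1], [2]], [[0, 1, 1, 1, 1, 2, 2, 2, 2], [0, 0, 0, 1, 1, 1, 1, 2], [2, 2]])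

def ov_0 : List ℕ × ℕ × ℕ × List (ℕ × ℤ) := ([1, 1, 1, 1, 1, 0], 0, 4, [(1000, -5), (2001, -10), (2002, -1)])

def ov_1 : List ℕ × ℕ × ℕ × List (ℕ × ℤ) := ([1, 0, 0, 0, 0, 0], 0, 1, [(1000, 5), (2000, 10), (2002, 1)])

def ov_2 : List ℕ × ℕ × ℕ × List (ℕ × ℤ) := ([2, 2, 2, 2, 2, 0], 0, 4, [(2000, -5)])

def ov_3 : List ℕ × ℕ × ℕ × List (ℕ × ℤ) := ([2, 0, 0, 0, 0, 0], 0, 1, [(2000, 5)])

def ov_4 : List ℕ × ℕ × ℕ × List (ℕ × ℤ) := ([2, 2, 2, 2, 2, 1], 0, 4, [(2001, -5)])

def ov_5 : List ℕ × ℕ × ℕ × List (ℕ × ℤ) := ([2, 1, 1, 1, 1, 1], 0, 1, [(2001, 5)])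

def fr_0 : ℕ × List ℕ × List ℕ × List (ℕ × ℤ) := (0, [0, 0, 0, 0, 0], [], [(1000, 10), (1001, 4), (2000, 10), (2001, 30), (2002, 6), (1000000, 5)])

def fr_1 : ℕ × List ℕ × List ℕ × List (ℕ × ℤ) := (0, [1, 1, 1, 1, 1], [], [(0, 3), (1000, 30), (1001, 3), (2000, 25), (2001, 70), (2002, 7), (1000001, 5)])

def fr_2 : ℕ × List ℕ × List ℕ × List (ℕ × ℤ) := (0, [1, 0], [0, 1, 2], [(1000, -9), (2000, -8), (2001, -16), (2002, -2), (1000002, -1)])

def fr_3 : ℕ × List ℕ × List ℕ × List (ℕ × ℤ) := (0, [2, 2, 2, 2, 2], [], [(2002, 1), (1000002, 5)])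

def fr_4 : ℕ × List ℕ × List ℕ × List (ℕ × ℤ) := (0, [2, 0], [0, 2], [(2000, 1), (2001, 8)])

def fr_5 : ℕ × List ℕ × List ℕ × List (ℕ × ℤ) := (0, [2, 1], [1, 2], [(2000, 6), (2001, 7)])

def tg_0 : ℕ × ℤ × List (ℕ × ℤ) := (2001, 0, [(5, 8), (11, 6), (12, -1)])

def tg_1 : ℕ × ℤ × List (ℕ × ℤ) := (2000, 0, [(11, 1)])

def tg_2 : ℕ × ℤ × List (ℕ × ℤ) := (1000, 0, [(0, 1)])

def tg_3 : ℕ × ℤ × List (ℕ × ℤ) := (2002, -1, [])

def C : Cert where
  p := 5
  n := 3
  r := 2
  fuel := 146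
  rules := [rule_0, rule_1, rule_2]
  defs := [(1, 0)]
  items := [item_0]
  ovs := [ov_0, ov_1, ov_2, ov_3, ov_4, ov_5]
  frs := [fr_0, fr_1, fr_2, fr_3, fr_4, fr_5]
  k0 := 2002
  zm := 1
  zcomb := [(0, -5), (2, 1), (5, -16), (11, -10)]
  targets := [tg_0, tg_1, tg_2, tg_3]

def codes : List ℕ := [1636252051387644370078750876974811895477569042632035618470228264330885551564962684654989617861878957300905779648484780693082218757103196160000316844510087539961118172413194603116266898080157273796653702164814221418608395962801402901171084681709349451176284076245438961158, 1472516359324008050130520287478644656962473404302361806912406052926203122644302379084259506886348086957190099250202425884564624643430527406672303193867552165746284446569243314378845288975204203229957334871605445401563834134692392063516456387864877808337821828714456688128, 992393340153763329984515980658175192074721087691576487909274929744776646006938611234417218985301476872544795297723038490247381826657259182969747616830432115338399726919572559069223499880229075880114339303756256622466256833971102542451561673043107350674604867814075139166]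

def conj : List ℕ := [1503403287531538723509645223601021903357941770552518042088061006053714605002424100299021206531911179204176213300029959366215361292241927784419133439226686838733394180378179065369660226704961980962747401094233409258805223210310192251563150801883154774276997240953672337417]

def codesW : List (List ℕ) := [[1, 1, 0, 1, 1, 2, 1, 2, 3, 2, 1, 1, 2], [0, 1, 0, 1, 1, 0, 0, 1, 0, 3, 3, 3, 0, 1, 2], [3, 2, 2, 2, 3, 0, 1, 2, 2, 3, 3, 3, 2, 2, 2, 1]]

def conjW : List (List ℕ) := [[2, 1, 0, 0, 3, 0, 0, 3, 2, 1, 0, 0, 0, 0, 1, 0, 0, 1]]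

def base : List ℕ := [0, 1]

def ord : List ℕ := [0, 7, 41, 64, 73, 98, 66, 32, 89, 25, 87, 28, 69, 96, 30, 9, 2, 43, 70, 61, 33, 26, 85, 67, 99, 1, 8, 74, 60, 42, 6, 4, 63, 72, 40, 95, 34, 68, 86, 27, 5, 3, 44, 62, 71, 97, 31, 29, 65, 88, 18, 36, 102, 109, 45, 15, 38, 106, 104, 47, 17, 49, 101, 108, 35, 54, 90, 122, 113, 56, 10, 24, 117, 76, 83, 112, 121, 53, 55, 94, 20, 11, 77, 118, 84, 21, 12, 80, 119, 78, 114, 123, 57, 91, 50, 23, 14, 82, 75, 116, 92, 58, 124, 51, 110, 13, 22, 81, 79, 115, 59, 111, 52, 93, 120, 19, 46, 103, 37, 105, 16, 48, 39, 107, 100]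


end Cfsg.Agent.Lib.HSSch.P5
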